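import Groth.Agent.OrdProjLib.Main
import Mathlib.Algebra.Category.ModuleCat.Presheaf.Sheafification
import Mathlib.Topology.Sheaves.Sheafify
import Mathlib.RingTheory.Flat.Basic

/-!
# A cover of a module over a flat algebra by a free one
-/

set_option autoImplicit false
set_option linter.style.haveILetI false
set_option maxHeartbeats 800000
set_option backward.isDefEq.respectTransparency false
universe u

open CategoryTheory CategoryTheory.Limits AlgebraicGeometry TopologicalSpace Opposite OrdProjLib

noncomputable section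

namespace OrdFlatLib

variable {X : Scheme.{u}} {A : Sheaf (Opens.grothendieckTopology X) RingCat.{u}} (M : SheafOfModules.{u} A)

/-- Generators: all sections on all opens. -/
abbrev Gen : Type u := Σ V : X.Opens, M.val.obj (op V)

/-- The generators living over `U`. -/
abbrev GenAt (U : (Opens X)ᵒᵖ) : Type u := {i : Gen M // U.unop ≤ i.1}

/-- Sections of the free cover. -/
abbrev FObj (U : (Opens X)ᵒᵖ) : Type u := GenAt M U →₀ A.obj.obj U

/-- Restriction of generators. -/
def genMap {U V : (Opens X)ᵒᵖ} (i : U ⟶ V) (j : GenAt M U) : GenAt M V := ⟨j.1, i.unop.le.trans j.2⟩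

theorem genMap_injective {U V : (Opens X)ᵒᵖ} (i : U ⟶ V) : Function.Injective (genMap M i) :=
  fun a b h => Subtype.ext (congrArg Subtype.val h :)

/-- Restriction of the free cover. -/
def fmap {U V : (Opens X)ᵒᵖ} (i : U ⟶ V) : FObj M U →+ FObj M V :=
  (Finsupp.mapDomain.addMonoidHom (genMap M i)).comp
    (Finsupp.mapRange.addMonoidHom (A.obj.map i).hom.toAddMonoidHom)

theorem fmap_single {U V : (Opens X)ᵒᵖ} (i : U ⟶ V) (j : GenAt M U) (a : A.obj.obj U) :
    fmap M i (Finsupp.single j a) = Finsupp.single (genMap M i j) (A.obj.map i a) := by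
  simp [fmap]

theorem fmap_smul {U V : (Opens X)ᵒᵖ} (i : U ⟶ V) (r : A.obj.obj U) (z : FObj M U) :
    fmap M i (r • z) = A.obj.map i r • fmap M i z := by
  induction z using Finsupp.induction_linear with
  | zero => simp
  | add x y hx hy => simp only [smul_add, map_add, hx, hy]
  | single j a => rw [Finsupp.smul_single, fmap_single, fmap_single, Finsupp.smul_single, smul_eq_mul, map_mul]; rfl

/-- The free cover as an abelian presheaf. -/
def fPre : (Opens X)ᵒᵖ ⥤ Ab.{u} where
  obj U := AddCommGrpCat.of (FObj M U)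
  map i := AddCommGrpCat.ofHom (fmap M i)
  map_id U := by
    refine AddCommGrpCat.hom_ext (AddMonoidHom.ext fun z => ?_)
    change fmap M (𝟙 U) z = z
    revert z; intro (z : FObj M U)
    induction z using Finsupp.induction_linear with
    | zero => exact map_zero _
    | add x y hx hy => rw [map_add, hx, hy]
    | single j a => rw [fmap_single, A.obj.map_id]; rfl
  map_comp {U V W} i j := by
    refine AddCommGrpCat.hom_ext (AddMonoidHom.ext fun z => ?_)
    change fmap M (i ≫ j) z = fmap M j (fmap M i z)
    revert z; intro (z : FObj M U)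
    induction z using Finsupp.induction_linear with
    | zero => simp
    | add x y hx hy => simp only [map_add, hx, hy]
    | single g a => rw [fmap_single, fmap_single, fmap_single, A.obj.map_comp]; rfl

instance fPreModule (U : (Opens X)ᵒᵖ) : Module (A.obj.obj U) ((fPre M).obj U) :=
  inferInstanceAs (Module (A.obj.obj U) (FObj M U))

/-- The free cover. -/
def Fr : PresheafOfModules.{u} A.obj :=
  PresheafOfModules.ofPresheaf (fPre M) fun _ _ i r z => fmap_smul M i r z

/-- The value of a generator. -/
def val {U : (Opens X)ᵒᵖ} (j : GenAt M U) : M.val.obj U := M.val.presheaf.map (homOfLE j.2).op j.1.2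

theorem val_map {U V : (Opens X)ᵒᵖ} (i : U ⟶ V) (j : GenAt M U) :
    val M (genMap M i j) = M.val.presheaf.map i (val M j) :=
  congr($(M.val.presheaf.map_comp (homOfLE j.2).op i) j.1.2)

/-- Evaluation on sections. -/
def evApp (U : (Opens X)ᵒᵖ) : FObj M U →ₗ[A.obj.obj U] M.val.obj U := Finsupp.linearCombination _ (val M)

/-- Evaluation. -/
def ev : Fr M ⟶ M.val :=
  PresheafOfModules.homMk
    { app := fun U => AddCommGrpCat.ofHom (evApp M U).toAddMonoidHom
      naturality := fun U V i => by
        refine AddCommGrpCat.hom_ext (AddMonoidHom.ext fun z => ?_)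
        change evApp M V (fmap M i z) = M.val.presheaf.map i (evApp M U z)
        revert z; intro (z : FObj M U)
        induction z using Finsupp.induction_linear with
        | zero =>
          rw [map_zero, map_zero, map_zero]
          exact (map_zero (M.val.presheaf.map i).hom).symm
        | add x y hx hy => simp only [map_add, hx, hy]
        | single j a =>
          rw [fmap_single, evApp, evApp, Finsupp.linearCombination_single, Finsupp.linearCombination_single, val_map]
          exact (M.val.map_smul i a _).symm }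
    fun U r z => (evApp M U).map_smul r z

theorem ev_surjective (U : (Opens X)ᵒᵖ) : Function.Surjective ((ev M).app U).hom := fun s =>
  ⟨(show FObj M U from Finsupp.single ⟨⟨U.unop, s⟩, le_rfl⟩ 1), by
    change evApp M U _ = s
    rw [evApp, Finsupp.linearCombination_single, one_smul]
    exact congr($(M.val.presheaf.map_id U) s)⟩

/-- The stalk of the free cover. -/
abbrev FStk (x : X) : Type u := ↑(TopCat.Presheaf.stalk (C := Ab.{u}) (X := X.carrier) (Fr M).presheaf x)

abbrev gF {U : X.Opens} {x : X} (hx : x ∈ U) (z : FObj M (op U)) : FStk M x :=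
  TopCat.Presheaf.germ (C := Ab.{u}) (Fr M).presheaf U x hx z

/-- Generators through a point. -/
abbrev GenStk (x : X) : Type u := {i : Gen M // x ∈ i.1}

/-- The germ of a generator. -/
def gen {x : X} (j : GenStk M x) : FStk M x := gF M (U := j.1.1) j.2 (Finsupp.single ⟨j.1, le_rfl⟩ 1)

theorem smul_gen {x : X} {U : X.Opens} (hx : x ∈ U) (a : A.obj.obj (op U)) (j : GenAt M (op U)) :
    gF M hx (Finsupp.single j a) = ga hx a • gen M ⟨j.1, j.2 hx⟩ := by
  have h1 : gen M ⟨j.1, j.2 hx⟩ = gF M hx (Finsupp.single j (1 : A.obj.obj (op U))) := by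
    refine (TopCat.Presheaf.germ_res_apply (Fr M).presheaf (homOfLE j.2) x hx _).symm.trans ?_
    refine congrArg (gF M hx) ?_
    refine (fmap_single M (homOfLE j.2).op ⟨j.1, le_rfl⟩ 1).trans ?_
    rw [map_one]
    rfl
  rw [h1]
  refine Eq.trans ?_ (PresheafOfModules.germ_ringCat_smul (R := A.obj) (Fr M) x U hx a _)
  refine congrArg (gF M hx) ?_
  change _ = a • (Finsupp.single j (1 : A.obj.obj (op U)) : FObj M (op U))
  rw [Finsupp.smul_single, smul_eq_mul, mul_one]

/-- The free cover has free stalks. -/
def stkLin (x : X) : (GenStk M x →₀ Ax (A := A) x) →ₗ[Ax (A := A) x] FStk M x :=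
  Finsupp.linearCombination _ (gen M)

theorem common_nhd (x : X) {ι : Type u} (s : Finset ι) (V : ι → X.Opens) (hV : ∀ i ∈ s, x ∈ V i) :
    ∃ W : X.Opens, x ∈ W ∧ ∀ i ∈ s, W ≤ V i :=
  ⟨s.inf V, Finset.inf_induction (p := fun T : X.Opens => x ∈ T) trivial (fun _ h₁ _ h₂ => ⟨h₁, h₂⟩) hV,
    fun _ hi => Finset.inf_le hi⟩

theorem stkLin_bijective (x : X) : Function.Bijective (stkLin M x) := by
  classical
  constructor
  · refine (injective_iff_map_eq_zero _).mpr fun c hc => ?_
    have hrep : ∀ j : GenStk M x, ∃ (U : X.Opens) (hx : x ∈ U) (a : A.obj.obj (op U)), ga hx a = c j :=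
      fun j => TopCat.Presheaf.germ_exist (C := RingCat.{u}) (X := X.carrier) A.obj (c j)
    choose U hxU a ha using hrep
    obtain ⟨W, hxW, hW⟩ := common_nhd x c.support (fun j => U j ⊓ j.1.1) fun j _ => ⟨hxU j, j.2⟩
    let a' : ∀ j ∈ c.support, A.obj.obj (op W) := fun j hj =>
      A.obj.map (homOfLE ((hW j hj).trans inf_le_left)).op (a j)
    let j' : ∀ j ∈ c.support, GenAt M (op W) := fun j hj => ⟨j.1, (hW j hj).trans inf_le_right⟩
    let z : FObj M (op W) := ∑ j ∈ c.support.attach, Finsupp.single (j' j.1 j.2) (a' j.1 j.2)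
    have hz : gF M hxW z = 0 := by
      refine (map_sum (TopCat.Presheaf.germ (C := Ab.{u}) (Fr M).presheaf W x hxW).hom _ _).trans ?_
      refine Eq.trans ?_ hc
      rw [stkLin, Finsupp.linearCombination_apply, Finsupp.sum, ← Finset.sum_attach c.support]
      refine Finset.sum_congr rfl fun j _ => ?_
      refine (smul_gen M hxW _ _).trans ?_
      refine congrArg (· • gen M j.1) ?_
      exact (TopCat.Presheaf.germ_res_apply A.obj _ x hxW (a j.1)).trans (ha j.1)
    obtain ⟨W', hxW', i₁, i₂, hW'⟩ := TopCat.Presheaf.germ_eq (C := Ab.{u}) (Fr M).presheaf x hxW hxW z 0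
      (hz.trans (map_zero (TopCat.Presheaf.germ (C := Ab.{u}) (Fr M).presheaf W x hxW).hom).symm)
    rw [map_zero] at hW'
    have h0 : fmap M i₁.op z = 0 := hW'
    refine Finsupp.ext fun j => ?_
    by_cases hj : j ∈ c.support
    · have h1 := congrArg (fun w : FObj M (op W') => w (genMap M i₁.op (j' j hj))) h0
      simp only [z, map_sum, fmap_single, Finsupp.finsetSum_apply, Finsupp.coe_zero, Pi.zero_apply] at h1
      rw [Finset.sum_eq_single (⟨j, hj⟩ : {q // q ∈ c.support})
        (fun q _ hq => Finsupp.single_eq_of_ne fun h => hq (Subtype.ext (Subtype.ext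
          (congrArg (fun w : GenAt M (op W') => w.1) h).symm)))
        (fun h => absurd (Finset.mem_attach _ _) h), Finsupp.single_eq_same] at h1
      rw [← ha j, Finsupp.coe_zero, Pi.zero_apply]
      have h2 : ga (A := A) hxW' (A.obj.map i₁.op (a' j hj)) = 0 := by rw [h1]; exact map_zero _
      rw [← h2]
      exact ((TopCat.Presheaf.germ_res_apply A.obj i₁ x hxW' _).trans
        (TopCat.Presheaf.germ_res_apply A.obj _ x hxW (a j))).symm
    · simpa using hj
  · intro v
    obtain ⟨U, hx, z, rfl⟩ := TopCat.Presheaf.germ_exist (C := Ab.{u}) (Fr M).presheaf v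
    revert z; intro (z : FObj M (op U))
    induction z using Finsupp.induction_linear with
    | zero => exact ⟨0, (map_zero (stkLin M x)).trans (map_zero (TopCat.Presheaf.germ (C := Ab.{u}) (Fr M).presheaf U x hx).hom).symm⟩
    | add y w hy hw =>
      obtain ⟨cy, hcy⟩ := hy
      obtain ⟨cw, hcw⟩ := hw
      refine ⟨cy + cw, (map_add (stkLin M x) cy cw).trans ?_⟩
      rw [hcy, hcw]
      exact (map_add (TopCat.Presheaf.germ (C := Ab.{u}) (Fr M).presheaf U x hx).hom y w).symm
    | single j a =>
      exact ⟨Finsupp.single ⟨j.1, j.2 hx⟩ (ga hx a), (Finsupp.linearCombination_single _ _ _).trans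
        (smul_gen M hx a j).symm⟩

/-- The sheafified cover. -/
abbrev F : SheafOfModules.{u} A := (PresheafOfModules.sheafification (R := A) (𝟙 A.obj)).obj (Fr M)

/-- The cover map. -/
def π : F M ⟶ M := ((PresheafOfModules.sheafificationAdjunction (R := A) (𝟙 A.obj)).homEquiv (Fr M) M).symm (ev M)

theorem epi_π : Epi (π M) := by
  let aE := PresheafOfModules.sheafificationAdjunction (R := A) (𝟙 A.obj)
  haveI : Epi (ev M) := by
    constructor
    intro Z g h hgh
    refine PresheafOfModules.hom_ext fun U => ModuleCat.hom_ext (LinearMap.ext fun s => ?_)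
    obtain ⟨w, rfl⟩ := ev_surjective M U s
    exact congr((PresheafOfModules.Hom.app $hgh U).hom w)
  haveI : Epi ((PresheafOfModules.sheafification (R := A) (𝟙 A.obj)).map (ev M)) := by
    haveI := aE.isLeftAdjoint
    infer_instance
  haveI : IsIso (aE.counit.app M) := inferInstance
  rw [π, Adjunction.homEquiv_counit]
  exact epi_comp _ _

theorem flat_stalk (φ : X.ringCatSheaf ⟶ A) (hA : FlatMod.IsFlat (OrdProjLib.res φ (one (A := A)))) (x : X) :
    Module.Flat (X.presheaf.stalk x) ((OrdProjLib.res φ (F M)).presheaf.stalk x) := by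
  classical
  let u : (Fr M).presheaf ⟶ (F M).val.presheaf :=
    CategoryTheory.toSheafify (Opens.grothendieckTopology X) (Fr M).presheaf
  haveI : IsIso ((TopCat.Presheaf.stalkFunctor Ab.{u} x).map u) :=
    TopCat.Presheaf.stalkFunctor_map_unit_toSheafify_isIso (X := X.toTopCat) x AddCommGrpCat.{u} _
  let ux : FStk M x →ₗ[Ax (A := A) x] Mx (F M) x :=
    { toFun := fun v => ((TopCat.Presheaf.stalkFunctor Ab.{u} x).map u).hom v
      map_add' := fun v w => map_add _ v w
      map_smul' := fun r v => by
        obtain ⟨U, hxU, a, rfl⟩ := TopCat.Presheaf.germ_exist (C := RingCat.{u}) (X := X.carrier) A.obj r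
        obtain ⟨V, hxV, z, rfl⟩ := TopCat.Presheaf.germ_exist (C := Ab.{u}) (Fr M).presheaf v
        have hW : x ∈ U ⊓ V := ⟨hxU, hxV⟩
        rw [← TopCat.Presheaf.germ_res_apply A.obj (homOfLE (inf_le_left : U ⊓ V ≤ U)) x hW a,
          ← TopCat.Presheaf.germ_res_apply (Fr M).presheaf (homOfLE (inf_le_right : U ⊓ V ≤ V)) x hW z,
          RingHom.id_apply, ← PresheafOfModules.germ_ringCat_smul (R := A.obj) (Fr M) x (U ⊓ V) hW]
        refine (TopCat.Presheaf.stalkFunctor_map_germ_apply (U ⊓ V) x hW u _).trans ?_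
        refine Eq.trans ?_ (congrArg _ (TopCat.Presheaf.stalkFunctor_map_germ_apply (U ⊓ V) x hW u _).symm)
        refine Eq.trans ?_ (PresheafOfModules.germ_ringCat_smul (R := A.obj) (F M).val x (U ⊓ V) hW _ _)
        exact congrArg _ ((((PresheafOfModules.sheafificationAdjunction (R := A) (𝟙 A.obj)).unit.app (Fr M)).app
          (op (U ⊓ V))).hom.map_smul _ _) }
  have hux : Function.Bijective ux :=
    ConcreteCategory.bijective_of_isIso ((TopCat.Presheaf.stalkFunctor Ab.{u} x).map u)
  let T : Ax (A := A) x ≃ₗ[Ax (A := A) x] Mx (one (A := A)) x :=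
    LinearEquiv.ofBijective (LinearMap.toSpanSingleton (Ax (A := A) x) _ _) (unit_bijective x)
  let E : Mx (F M) x ≃ₗ[Ax (A := A) x] (GenStk M x →₀ Mx (one (A := A)) x) :=
    ((LinearEquiv.ofBijective (stkLin M x) (stkLin_bijective M x)).trans (LinearEquiv.ofBijective ux hux)).symm.trans
      (Finsupp.mapRange.linearEquiv T)
  let P := (OrdProjLib.res φ (one (A := A))).presheaf.stalk x
  haveI : Module.Flat (X.presheaf.stalk x) P := hA x
  haveI : Module.Flat (X.presheaf.stalk x) (GenStk M x →₀ P) :=
    Module.Flat.of_linearEquiv (finsuppLEquivDirectSum (X.presheaf.stalk x) P (GenStk M x))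
  let E' : (OrdProjLib.res φ (F M)).presheaf.stalk x →ₗ[X.presheaf.stalk x] (GenStk M x →₀ P) :=
    { toFun := fun v => (show GenStk M x →₀ P from E (show Mx (F M) x from v))
      map_add' := fun v w => E.map_add _ _
      map_smul' := fun r v => by
        obtain ⟨U, hx, r₀, hr⟩ := X.presheaf.germ_exist r
        refine Finsupp.ext fun m => ?_
        have h1 : E (show Mx (F M) x from r • v) = ga hx (φ.hom.app (op U) r₀) • E (show Mx (F M) x from v) := by
          rw [← E.map_smul]
          exact congrArg E (smul_eq φ (F M) r v U hx r₀ hr)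
        exact (congrArg (fun z : GenStk M x →₀ Mx (one (A := A)) x => z m) h1).trans (smul_eq φ _ r _ U hx r₀ hr).symm }
  exact Module.Flat.of_linearEquiv (LinearEquiv.ofBijective E' E.bijective)

end OrdFlatLib
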